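import Groth.Prelude.Def_EGA41
import Mathlib

/-! Decreasing families of subfields and imperfection modules. -/

universe u
set_option autoImplicit false

open TensorProduct
open scoped Classical

noncomputable section

namespace Groth.Agent.AdmissibleSub

variable {k₀ K L : Type u} [Field k₀] [Field K] [Field L] [Algebra k₀ K] [Algebra K L]

omit [Field k₀] [Algebra k₀ K] in
theorem baseChange_eq_zero_iff {M N : Type u} [AddCommGroup M] [Module K M] [AddCommGroup N]
    [Module K N] (ψ : M →ₗ[K] N) (w : L ⊗[K] M) :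
    ψ.baseChange L w = 0 ↔
      ∀ j, ψ (equivFinsuppOfBasisLeft (Module.Basis.ofVectorSpace K L) w j) = 0 := by
  let b := Module.Basis.ofVectorSpace K L
  have nat : ∀ w : L ⊗[K] M, ∀ j, ψ (equivFinsuppOfBasisLeft b w j) =
      equivFinsuppOfBasisLeft b (ψ.baseChange L w) j := by
    intro w j
    induction w with
    | zero => simp
    | tmul l m => rw [LinearMap.baseChange_tmul, equivFinsuppOfBasisLeft_apply_tmul_apply,
        equivFinsuppOfBasisLeft_apply_tmul_apply, map_smul]
    | add x y hx hy => simp only [map_add, Finsupp.add_apply, hx, hy]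
  constructor
  · intro h j; rw [nat, h, map_zero]; rfl
  · intro h
    apply (equivFinsuppOfBasisLeft b).injective
    ext j
    rw [map_zero, ← nat]; exact h j

/-- the kernel of a family separates after base change -/
theorem eq_zero_of_forall {M : Type u} [AddCommGroup M] [Module K M] {ι : Type u} {N : ι → Type u}
    [∀ i, AddCommGroup (N i)] [∀ i, Module K (N i)] (ψ : ∀ i, M →ₗ[K] N i)
    (h : ∀ m, (∀ i, ψ i m = 0) → m = 0) (w : L ⊗[K] M) (hw : ∀ i, (ψ i).baseChange L w = 0) :
    w = 0 := by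
  apply (equivFinsuppOfBasisLeft (Module.Basis.ofVectorSpace K L)).injective
  ext j
  rw [map_zero]
  exact h _ fun i => (baseChange_eq_zero_iff (ψ i) w).mp (hw i) j

/-- the map to the differentials relative to an intermediate field -/
def ψ (E : IntermediateField k₀ K) : Ω[K⁄k₀] →ₗ[K] Ω[K⁄E] :=
  (KaehlerDifferential.map k₀ E K K).restrictScalars K

omit [Field L] [Algebra K L] in
theorem range_le {A : Type*} {B : Type*} {C : Type*} [CommRing A] [CommRing B] [CommRing C] [Algebra A B] [Algebra B C]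
    [Algebra A C] [IsScalarTower A B C] :
    LinearMap.range (KaehlerDifferential.mapBaseChange A B C) ≤
      Submodule.span C (Set.range fun y : B => KaehlerDifferential.D A C (algebraMap B C y)) := by
  rintro _ ⟨w, rfl⟩
  induction w with
  | zero => rw [map_zero]; exact zero_mem _
  | tmul c m =>
    rw [KaehlerDifferential.mapBaseChange_tmul]
    refine Submodule.smul_mem _ _ ?_
    have hm : m ∈ Submodule.span B (Set.range (KaehlerDifferential.D A B)) := by
      rw [KaehlerDifferential.span_range_derivation]; trivial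
    induction hm using Submodule.span_induction with
    | mem x hx =>
      obtain ⟨y, rfl⟩ := hx
      rw [KaehlerDifferential.map_D]
      exact Submodule.subset_span ⟨y, rfl⟩
    | zero => rw [map_zero]; exact zero_mem _
    | add x y _ _ hx hy => rw [map_add]; exact add_mem hx hy
    | smul b x _ hx => rw [map_smul, ← algebraMap_smul C b]; exact Submodule.smul_mem _ _ hx
  | add x y hx hy => rw [map_add]; exact add_mem hx hy

omit [Field L] [Algebra K L] in
theorem ψ_D (E : IntermediateField k₀ K) (x : K) :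
    ψ E (KaehlerDifferential.D k₀ K x) = KaehlerDifferential.D E K x :=
  KaehlerDifferential.map_D _ _ _ _ _

omit [Field L] [Algebra K L] in
theorem ker_mono {E E' : IntermediateField k₀ K} (h : E ≤ E') :
    LinearMap.ker (ψ E) ≤ LinearMap.ker (ψ E') := by
  intro m hm
  have hm' : m ∈ LinearMap.range (KaehlerDifferential.mapBaseChange k₀ E K) := by
    rw [KaehlerDifferential.range_mapBaseChange]; exact hm
  refine Submodule.span_le.mpr ?_ (range_le hm')
  rintro _ ⟨y, rfl⟩
  show ψ E' _ = 0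
  rw [ψ_D]
  exact Derivation.map_algebraMap _ (⟨(y : K), h y.2⟩ : E')

theorem exists_index {ι : Type u} [Preorder ι] [IsDirected ι (· ≤ ·)] [Nonempty ι]
    (W : ι → Submodule L (L ⊗[K] Ω[K⁄k₀])) (hW : Antitone W) (hsep : ∀ w, (∀ i, w ∈ W i) → w = 0)
    (V : Submodule L (L ⊗[K] Ω[K⁄k₀])) [Module.Finite L V] : ∃ i, V ⊓ W i = ⊥ := by
  classical
  haveI : ∀ i, Module.Finite L (V ⊓ W i : Submodule L (L ⊗[K] Ω[K⁄k₀])) := fun i =>
    Submodule.finiteDimensional_of_le inf_le_left
  obtain ⟨i₀, hi₀⟩ : ∃ i₀, ∀ i, Module.finrank L (V ⊓ W i₀ : Submodule L (L ⊗[K] Ω[K⁄k₀])) ≤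
      Module.finrank L (V ⊓ W i : Submodule L (L ⊗[K] Ω[K⁄k₀])) :=
    ⟨Function.argmin (fun i => Module.finrank L (V ⊓ W i : Submodule L (L ⊗[K] Ω[K⁄k₀]))),
      fun i => Function.argmin_le (fun i => Module.finrank L (V ⊓ W i : Submodule L (L ⊗[K] Ω[K⁄k₀]))) i⟩
  refine ⟨i₀, eq_bot_iff.mpr fun w hw => ?_⟩
  rw [Submodule.mem_bot]
  refine hsep w fun i => ?_
  obtain ⟨j, hj₀, hji⟩ := exists_ge_ge i₀ i
  have heq : V ⊓ W j = V ⊓ W i₀ :=
    Submodule.eq_of_le_of_finrank_le (inf_le_inf_left _ (hW hj₀)) (hi₀ j)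
  rw [← heq] at hw
  exact hW hji hw.2

variable [Algebra k₀ L] [IsScalarTower k₀ K L]
variable {ι : Type u} [Preorder ι] [IsDirected ι (· ≤ ·)] [Nonempty ι] {k : ι → IntermediateField k₀ K}
  (hk : Antitone k) (hsep : ∀ ω : Ω[K⁄k₀], (∀ i, ψ (k i) ω = 0) → ω = 0)

include hk hsep in
theorem exists_admissible [Module.Finite L (EGA41.imperfection k₀ K L)] :
    ∃ i, EGA41.imperfection k₀ K L ⊓ LinearMap.ker ((ψ (k i)).baseChange L) = ⊥ := by
  refine exists_index (fun i => LinearMap.ker ((ψ (k i)).baseChange L)) (fun i j hij w hw => ?_)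
    (fun w hw => eq_zero_of_forall (fun i => ψ (k i)) hsep w hw) _
  rw [LinearMap.mem_ker, baseChange_eq_zero_iff] at hw ⊢
  exact fun l => ker_mono (hk hij) (hw l)

include hk hsep in
theorem eq_zero_of_map_eq_zero [Module.Finite L (EGA41.imperfection k₀ K L)] (ω : Ω[L⁄k₀])
    (hω : ∀ i, KaehlerDifferential.map k₀ ((k i).map (IsScalarTower.toAlgHom k₀ K L)) L L ω = 0) :
    ω = 0 := by
  let φ := KaehlerDifferential.mapBaseChange k₀ K L
  have hW : ∀ i, ∃ w, (ψ (k i)).baseChange L w = 0 ∧ φ w = ω := by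
    intro i
    have h1 : ω ∈ LinearMap.range
        (KaehlerDifferential.mapBaseChange k₀ ((k i).map (IsScalarTower.toAlgHom k₀ K L)) L) := by
      rw [KaehlerDifferential.range_mapBaseChange]; exact hω i
    have hle : Submodule.span L (Set.range fun y : (k i).map (IsScalarTower.toAlgHom k₀ K L) =>
        KaehlerDifferential.D k₀ L (algebraMap ((k i).map (IsScalarTower.toAlgHom k₀ K L)) L y)) ≤
        (LinearMap.ker ((ψ (k i)).baseChange L)).map φ := by
      rw [Submodule.span_le]
      rintro _ ⟨⟨_, x, hx, rfl⟩, rfl⟩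
      refine ⟨1 ⊗ₜ KaehlerDifferential.D k₀ K x, ?_, ?_⟩
      · show (ψ (k i)).baseChange L _ = 0
        rw [LinearMap.baseChange_tmul, ψ_D,
          show KaehlerDifferential.D (k i) K x = 0 from Derivation.map_algebraMap _ (⟨x, hx⟩ : k i),
          TensorProduct.tmul_zero]
      · show φ _ = _
        rw [KaehlerDifferential.mapBaseChange_tmul, one_smul, KaehlerDifferential.map_D]
        rfl
    obtain ⟨w, hw, hwω⟩ := hle (range_le h1)
    exact ⟨w, hw, hwω⟩
  choose w hw hwω using hW
  obtain ⟨i₀, hi₀⟩ := exists_admissible (L := L) hk hsep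
  have hanti : ∀ {i j}, i ≤ j → ∀ v, (ψ (k j)).baseChange L v = 0 → (ψ (k i)).baseChange L v = 0 := by
    intro i j hij v hv
    rw [baseChange_eq_zero_iff] at hv ⊢
    exact fun l => ker_mono (hk hij) (hv l)
  have h0 : w i₀ = 0 := by
    refine eq_zero_of_forall (fun i => ψ (k i)) hsep _ fun i => ?_
    obtain ⟨j, hj₀, hji⟩ := exists_ge_ge i₀ i
    have hd : w j - w i₀ ∈ EGA41.imperfection k₀ K L ⊓ LinearMap.ker ((ψ (k i₀)).baseChange L) := by
      refine ⟨?_, ?_⟩
      · show φ _ = 0
        rw [map_sub, hwω, hwω, sub_self]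
      · show (ψ (k i₀)).baseChange L _ = 0
        rw [map_sub, hanti hj₀ _ (hw j), hw i₀, sub_self]
    rw [hi₀, Submodule.mem_bot, sub_eq_zero] at hd
    rw [← hd]
    exact hanti hji _ (hw j)
  rw [← hwω i₀, h0, map_zero]

end Groth.Agent.AdmissibleSub
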