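import Groth.Agent.AdmissibleSub.Basic

/-! Kernels between imperfection modules. -/

universe u v w
set_option autoImplicit false
set_option linter.unusedSectionVars false

open TensorProduct
open scoped Classical

noncomputable section

namespace Groth.Agent.AdmissibleSub

variable {k₀ : Type u} {k : Type v} {K L : Type w} [Field k₀] [Field k] [Field K] [Field L]
  [Algebra k₀ k] [Algebra k₀ K] [Algebra k K] [IsScalarTower k₀ k K] [Algebra K L]

theorem ker_bc_le :
    LinearMap.ker ((KaehlerDifferential.map k₀ k K K).baseChange L) ≤
      Submodule.span L (Set.range fun x : k =>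
        (1 : L) ⊗ₜ[K] KaehlerDifferential.D k₀ K (algebraMap k K x)) := by
  intro z hz
  let ψ' := KaehlerDifferential.map k₀ k K K
  have hex := Module.Flat.lTensor_exact L (show Function.Exact (LinearMap.ker ψ').subtype ψ' from
    LinearMap.exact_iff.mpr (Submodule.range_subtype _).symm)
  obtain ⟨w, rfl⟩ := (hex z).mp hz
  clear hz
  induction w with
  | zero => rw [map_zero]; exact zero_mem _
  | add x y hx hy => rw [map_add]; exact add_mem hx hy
  | tmul l m =>
    rw [LinearMap.lTensor_tmul]
    have hm : (m : Ω[K⁄k₀]) ∈ Submodule.span K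
        (Set.range fun x : k => KaehlerDifferential.D k₀ K (algebraMap k K x)) :=
      range_le (A := k₀) (B := k) (C := K) (by rw [KaehlerDifferential.range_mapBaseChange]; exact m.2)
    show l ⊗ₜ[K] (m : Ω[K⁄k₀]) ∈ _
    generalize (m : Ω[K⁄k₀]) = m' at hm
    induction hm using Submodule.span_induction with
    | mem x hx =>
      obtain ⟨y, rfl⟩ := hx
      rw [show l ⊗ₜ[K] KaehlerDifferential.D k₀ K (algebraMap k K y) =
        l • ((1 : L) ⊗ₜ[K] KaehlerDifferential.D k₀ K (algebraMap k K y)) by
          rw [smul_tmul', smul_eq_mul, mul_one]]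
      exact Submodule.smul_mem _ _ (Submodule.subset_span ⟨y, rfl⟩)
    | zero => rw [tmul_zero]; exact zero_mem _
    | add x y _ _ hx hy => rw [tmul_add]; exact add_mem hx hy
    | smul c x _ hx =>
      rw [tmul_smul, ← algebraMap_smul L c]
      exact Submodule.smul_mem _ _ hx

theorem span_le_ker_bc :
    Submodule.span L (Set.range fun x : k => (1 : L) ⊗ₜ[K] KaehlerDifferential.D k₀ K (algebraMap k K x)) ≤
      LinearMap.ker ((KaehlerDifferential.map k₀ k K K).baseChange L) := by
  rw [Submodule.span_le]
  rintro _ ⟨x, rfl⟩
  show (KaehlerDifferential.map k₀ k K K).baseChange L _ = 0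
  rw [LinearMap.baseChange_tmul, KaehlerDifferential.map_D, Algebra.algebraMap_self, RingHom.id_apply,
    Derivation.map_algebraMap, tmul_zero]

variable [Algebra k₀ L] [Algebra k L] [IsScalarTower k₀ k L] [IsScalarTower k₀ K L] [IsScalarTower k K L]

theorem mapBaseChange_map_comm (z : L ⊗[K] Ω[K⁄k₀]) :
    KaehlerDifferential.mapBaseChange k K L ((KaehlerDifferential.map k₀ k K K).baseChange L z) =
      KaehlerDifferential.map k₀ k L L (KaehlerDifferential.mapBaseChange k₀ K L z) := by
  induction z with
  | zero => simp
  | add x y hx hy => simp only [map_add, hx, hy]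
  | tmul l m =>
    rw [LinearMap.baseChange_tmul, KaehlerDifferential.mapBaseChange_tmul,
      KaehlerDifferential.mapBaseChange_tmul, map_smul]
    congr 1
    have hm : m ∈ Submodule.span K (Set.range (KaehlerDifferential.D k₀ K)) := by
      rw [KaehlerDifferential.span_range_derivation]; trivial
    induction hm using Submodule.span_induction with
    | mem x hx =>
      obtain ⟨y, rfl⟩ := hx
      simp only [KaehlerDifferential.map_D, Algebra.algebraMap_self, RingHom.id_apply]
    | zero => simp only [map_zero]
    | add x y _ _ hx hy => simp only [map_add, hx, hy]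
    | smul c x _ hx =>
      simp only [map_smul, hx]
      exact ((algebraMap_smul L c _).symm.trans ((map_smul _ _ _).symm.trans (congrArg _ (algebraMap_smul L c _))))

theorem map_comp {k'' : Type*} [Field k''] [Algebra k₀ k''] [Algebra k k''] [IsScalarTower k₀ k k'']
    [Algebra k'' K] [IsScalarTower k₀ k'' K] [IsScalarTower k k'' K] (z : L ⊗[K] Ω[K⁄k₀]) :
    (KaehlerDifferential.map k₀ k'' K K).baseChange L z =
      (KaehlerDifferential.map k k'' K K).baseChange L ((KaehlerDifferential.map k₀ k K K).baseChange L z) := by
  induction z with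
  | zero => simp
  | add x y hx hy => simp only [map_add, hx, hy]
  | tmul l m =>
    simp only [LinearMap.baseChange_tmul]
    congr 1
    have hm : m ∈ Submodule.span K (Set.range (KaehlerDifferential.D k₀ K)) := by
      rw [KaehlerDifferential.span_range_derivation]; trivial
    induction hm using Submodule.span_induction with
    | mem x hx =>
      obtain ⟨y, rfl⟩ := hx
      simp only [KaehlerDifferential.map_D, Algebra.algebraMap_self, RingHom.id_apply]
    | zero => simp only [map_zero]
    | add x y _ _ hx hy => simp only [map_add, hx, hy]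
    | smul c x _ hx => simp only [map_smul, hx]

/-- base change of the intersection of two kernels -/
theorem range_bc_inf_ker {L M N P Q : Type w} [Field L] [Field M] [Algebra L M] [AddCommGroup N] [Module L N]
    [AddCommGroup P] [Module L P] [AddCommGroup Q] [Module L Q] (f : N →ₗ[L] P) (g : N →ₗ[L] Q) :
    LinearMap.range ((LinearMap.ker f ⊓ LinearMap.ker g).subtype.baseChange M) =
      LinearMap.ker (f.baseChange M) ⊓ LinearMap.ker (g.baseChange M) ∧
    Module.rank M (LinearMap.range ((LinearMap.ker f ⊓ LinearMap.ker g).subtype.baseChange M)) =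
      Module.rank L ↥(LinearMap.ker f ⊓ LinearMap.ker g) := by
  let D := LinearMap.ker f ⊓ LinearMap.ker g
  refine ⟨le_antisymm ?_ fun y hy => ?_, ?_⟩
  · rintro _ ⟨v, rfl⟩
    have h0 : ∀ {R : Type w} [AddCommGroup R] [Module L R] (G : N →ₗ[L] R),
        (∀ d : D, G d = 0) → G.baseChange M (D.subtype.baseChange M v) = 0 := by
      intro R _ _ G hG
      rw [← LinearMap.comp_apply, ← LinearMap.baseChange_comp,
        show G.comp D.subtype = 0 from LinearMap.ext hG, LinearMap.baseChange_zero, LinearMap.zero_apply]
    exact ⟨h0 f fun d => d.2.1, h0 g fun d => d.2.2⟩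
  · have h : (f.prod g).baseChange M y = 0 := by
      obtain ⟨h1, h2⟩ := hy
      rw [SetLike.mem_coe, LinearMap.mem_ker, baseChange_eq_zero_iff] at h1 h2
      rw [baseChange_eq_zero_iff]
      exact fun j => Prod.ext (h1 j) (h2 j)
    exact (Module.Flat.lTensor_exact M (show Function.Exact D.subtype (f.prod g) from
      LinearMap.exact_iff.mpr (by rw [Submodule.range_subtype, LinearMap.ker_prod])) y).mp h
  · have hinj : Function.Injective (D.subtype.baseChange M) :=
      Module.Flat.lTensor_preserves_injective_linearMap D.subtype D.injective_subtype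
    rw [rank_range_of_injective _ hinj,
      Module.rank_baseChange, Cardinal.lift_id]

end Groth.Agent.AdmissibleSub
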