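import Groth.Agent.FSField.Basic
import Mathlib

/-! Separable extensions (any universes) are formally smooth. -/

universe u v w
set_option autoImplicit false

open scoped TensorProduct

namespace Groth.Agent.AdmissibleSub

theorem linearIndepOn_pow {k : Type v} {L : Type w} [Field k] [Field L] [Algebra k L] (p : ℕ) (hp : p.Prime) [CharP k p]
    [Algebra.IsGeometricallyReduced k L] (s : Finset L) (hs : LinearIndepOn k _root_.id (s : Set L)) :
    LinearIndepOn k (· ^ p) (s : Set L) := by
  classical
  haveI : Fact p.Prime := ⟨hp⟩
  let kb := AlgebraicClosure k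
  haveI : CharP kb p := charP_of_injective_algebraMap (algebraMap k kb).injective p
  haveI : IsReduced (kb ⊗[k] L) := (Algebra.isGeometricallyReduced_field_iff k L).mp inferInstance
  haveI : Nontrivial (kb ⊗[k] L) := (Algebra.TensorProduct.includeRight_injective (A := kb) (B := L) (algebraMap k kb).injective).nontrivial
  haveI : CharP (kb ⊗[k] L) p := charP_of_injective_algebraMap (algebraMap kb (kb ⊗[k] L)).injective p
  unfold LinearIndepOn
  rw [Fintype.linearIndependent_iff]
  intro g hg i
  choose d hd using fun j => IsAlgClosed.exists_pow_nat_eq (algebraMap k kb (g j)) hp.pos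
  have hz : (∑ j, d j ⊗ₜ[k] (j : L)) ^ p = (0 : kb ⊗[k] L) := by
    rw [sum_pow_char]
    have h1 : ∀ j, (d j ⊗ₜ[k] (j : L)) ^ p = (1 : kb) ⊗ₜ[k] (g j • (j : L) ^ p) := fun j => by
      rw [Algebra.TensorProduct.tmul_pow, hd, Algebra.algebraMap_eq_smul_one, TensorProduct.smul_tmul]
    rw [Finset.sum_congr rfl fun j _ => h1 j, ← TensorProduct.tmul_sum, hg, TensorProduct.tmul_zero]
  have hz0 : (∑ j, d j ⊗ₜ[k] (j : L)) = (0 : kb ⊗[k] L) := IsReduced.eq_zero _ ⟨p, hz⟩
  let b := Module.Basis.extend hs
  have hd0 : d i = 0 := by
    have hmem : (i : L) ∈ LinearIndepOn.extend hs (Set.subset_univ _) :=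
      LinearIndepOn.subset_extend hs _ i.2
    have h2 := congr((b.baseChange kb).repr $hz0 ⟨i, hmem⟩)
    rw [map_sum, map_zero, Finsupp.coe_zero, Pi.zero_apply, Finsupp.finsetSum_apply] at h2
    have h3 : ∀ j : (s : Set L), (b.baseChange kb).repr (d j ⊗ₜ[k] (j : L)) ⟨i, hmem⟩ = if j = i then d j else 0 := by
      intro j
      have hj : (j : L) ∈ LinearIndepOn.extend hs (Set.subset_univ _) := LinearIndepOn.subset_extend hs _ j.2
      have : (j : L) = b ⟨j, hj⟩ := (Module.Basis.extend_apply_self hs ⟨j, hj⟩).symm
      rw [Module.Basis.baseChange_repr_tmul, this, b.repr_self, Finsupp.single_apply]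
      by_cases h : j = i
      · subst h; simp
      · rw [if_neg h]
        split_ifs with h'
        · exact (h (Subtype.ext (by simpa using congrArg Subtype.val h'))).elim
        · rw [zero_smul]
    rw [Finset.sum_congr rfl fun j _ => h3 j] at h2
    simpa using h2
  have := hd i
  rw [hd0, zero_pow hp.ne_zero] at this
  exact (_root_.map_eq_zero (algebraMap k kb)).mp this.symm

theorem formallySmooth_of_geomReduced (k : Type v) (K : Type w) [Field k] [Field K] [Algebra k K]
    [h : Algebra.IsGeometricallyReduced k K] : Algebra.FormallySmooth k K := by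
  classical
  refine Groth.Agent.FSField.formallySmooth_of_forall_finset k K fun s => ?_
  let L := IntermediateField.adjoin k (s : Set K)
  haveI : Algebra.EssFiniteType k L := IntermediateField.essFiniteType_iff.mpr (IntermediateField.fg_adjoin_finset _)
  haveI : Algebra.IsGeometricallyReduced k L := Algebra.IsGeometricallyReduced.of_injective L.val L.val.injective
  obtain ⟨p, hp⟩ := CharP.exists k
  rcases eq_or_ne p 0 with rfl | hp0
  · haveI : CharZero k := CharP.charP_to_charZero _
    haveI : PerfectField k := PerfectField.ofCharZero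
    exact Algebra.FormallySmooth.of_perfectField
  · have hp' := (CharP.char_is_prime_or_zero k p).resolve_right hp0
    haveI : ExpChar k p := ExpChar.prime hp'
    haveI : CharP L p := charP_of_injective_algebraMap (algebraMap k L).injective p
    haveI : ExpChar L p := ExpChar.prime hp'
    obtain ⟨t, ht, hsep⟩ := exists_isTranscendenceBasis_and_isSeparable_of_linearIndepOn_pow_of_essFiniteType
      p hp' (k := k) (K := L) (fun s hs => linearIndepOn_pow p hp' s hs)
    have : Algebra.IsSeparable (IntermediateField.adjoin k (Set.range ((↑) : t → L))) L := by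
      convert hsep <;> simp
    exact Algebra.FormallySmooth.of_algebraicIndependent_of_isSeparable ht.1

theorem mapBaseChange_injective (k₀ : Type u) (k : Type v) (K : Type w) [Field k₀] [Field k] [Field K]
    [Algebra k₀ k] [Algebra k₀ K] [Algebra k K] [IsScalarTower k₀ k K]
    [Algebra.IsGeometricallyReduced k K] :
    Function.Injective (KaehlerDifferential.mapBaseChange k₀ k K) := by
  haveI := formallySmooth_of_geomReduced k K
  rw [injective_iff_map_eq_zero]
  intro x hx
  obtain ⟨y, rfl⟩ := (Algebra.H1Cotangent.exact_δ_mapBaseChange k₀ k K x).mp hx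
  rw [Subsingleton.elim y 0, map_zero]

end Groth.Agent.AdmissibleSub
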